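import Cfsg.Agent.H127.Gs.Tv

/-!
# S4327: `SL_n(F)`, `n ≥ 3`, is transitive on opposite pairs of transvections with given invariants
-/

set_option autoImplicit false

namespace Cfsg.Agent.H127.Gs

open Matrix Module

variable {F : Type*} [Field F] {ι : Type*} [Fintype ι] [DecidableEq ι]

/-- the map `x ↦ (f x, f' x)` -/
noncomputable def fpair (f f' : ι → F) : (ι → F) →ₗ[F] F × F :=
  (dotProductBilin F F f).prod (dotProductBilin F F f')

omit [DecidableEq ι] in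
theorem fpair_apply (f f' x : ι → F) : fpair f f' x = (f ⬝ᵥ x, f' ⬝ᵥ x) := rfl

omit [DecidableEq ι] in
theorem finrank_ker_fpair {v f v' f' : ι → F} (h1 : f ⬝ᵥ v = 0) (h2 : f' ⬝ᵥ v' = 0) (hα : f ⬝ᵥ v' ≠ 0)
    (hβ : f' ⬝ᵥ v ≠ 0) : finrank F (LinearMap.ker (fpair f f')) + 2 = Fintype.card ι := by
  have hsurj : LinearMap.range (fpair f f') = ⊤ := by
    rw [LinearMap.range_eq_top]
    rintro ⟨s, t⟩
    refine ⟨(s / (f ⬝ᵥ v')) • v' + (t / (f' ⬝ᵥ v)) • v, ?_⟩
    rw [fpair_apply, dotProduct_add, dotProduct_add, dotProduct_smul, dotProduct_smul, dotProduct_smul,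
      dotProduct_smul, h1, h2, smul_zero, smul_zero, zero_add, add_zero, smul_eq_mul, smul_eq_mul,
      div_mul_cancel₀ _ hα, div_mul_cancel₀ _ hβ]
  have h3 := LinearMap.finrank_range_add_finrank_ker (fpair f f')
  rw [hsurj, finrank_top, Module.finrank_prod, Module.finrank_self, Module.finrank_fintype_fun_eq_card] at h3
  omega

theorem exists_canon (h3 : 3 ≤ Fintype.card ι) {v f v' f' : ι → F} (h1 : f ⬝ᵥ v = 0) (h2 : f' ⬝ᵥ v' = 0)
    (hα : f ⬝ᵥ v' ≠ 0) (hβ : f' ⬝ᵥ v ≠ 0) {i j : ι} (hij : i ≠ j) :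
    ∃ A : Matrix.SpecialLinearGroup ι F, (A : Matrix ι ι F) *ᵥ Pi.single i 1 = v ∧
      (A : Matrix ι ι F) *ᵥ Pi.single j 1 = v' ∧ f ᵥ* (A : Matrix ι ι F) = (f ⬝ᵥ v') • Pi.single j 1 ∧
      f' ᵥ* (A : Matrix ι ι F) = (f' ⬝ᵥ v) • Pi.single i 1 := by
  classical
  set W := LinearMap.ker (fpair f f') with hW
  set W0 := LinearMap.ker (fpair (Pi.single j 1 : ι → F) (Pi.single i 1)) with hW0
  have hd1 := finrank_ker_fpair h1 h2 hα hβ
  have hd2 := finrank_ker_fpair (F := F) (v := Pi.single i 1) (f := Pi.single j 1) (v' := Pi.single j 1)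
    (f' := Pi.single i 1) (by simp [hij]) (by simp [hij.symm]) (by simp) (by simp)
  have hdim : finrank F W0 = finrank F W := by
    rw [hW, hW0]
    omega
  let θ : W0 ≃ₗ[F] W := LinearEquiv.ofFinrankEq _ _ hdim
  let π : (ι → F) →ₗ[F] W0 := LinearMap.codRestrict W0
    (LinearMap.id - (LinearMap.proj i : (ι → F) →ₗ[F] F).smulRight (Pi.single i 1) -
      (LinearMap.proj j : (ι → F) →ₗ[F] F).smulRight (Pi.single j 1)) (by
      intro x
      rw [hW0, LinearMap.mem_ker, fpair_apply]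
      simp [hij, hij.symm])
  have hπ : ∀ x, ((π x : W0) : ι → F) = x - x i • Pi.single i 1 - x j • Pi.single j 1 := fun x => rfl
  let L : (ι → F) →ₗ[F] (ι → F) := (LinearMap.proj i : (ι → F) →ₗ[F] F).smulRight v +
    (LinearMap.proj j : (ι → F) →ₗ[F] F).smulRight v' + W.subtype ∘ₗ θ.toLinearMap ∘ₗ π
  have hL : ∀ x, L x = x i • v + x j • v' + ((θ (π x) : W) : ι → F) := fun x => rfl
  have hWf : ∀ w : W, f ⬝ᵥ (w : ι → F) = 0 ∧ f' ⬝ᵥ (w : ι → F) = 0 := by
    intro w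
    have h4 : (w : ι → F) ∈ LinearMap.ker (fpair f f') := w.2
    rw [LinearMap.mem_ker, fpair_apply, Prod.mk_eq_zero] at h4
    exact h4
  have hfL : ∀ x, f ⬝ᵥ L x = x j * (f ⬝ᵥ v') := by
    intro x
    rw [hL, dotProduct_add, dotProduct_add, dotProduct_smul, dotProduct_smul, h1, (hWf _).1, smul_zero, zero_add,
      add_zero, smul_eq_mul]
  have hfL' : ∀ x, f' ⬝ᵥ L x = x i * (f' ⬝ᵥ v) := by
    intro x
    rw [hL, dotProduct_add, dotProduct_add, dotProduct_smul, dotProduct_smul, h2, (hWf _).2, smul_zero,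
      add_zero, add_zero, smul_eq_mul]
  have hinj : Function.Injective L := by
    rw [← LinearMap.ker_eq_bot, LinearMap.ker_eq_bot']
    intro x hx
    have h4 : x j = 0 := by
      have := hfL x
      rw [hx, dotProduct_zero] at this
      exact (mul_eq_zero.1 this.symm).resolve_right hα
    have h5 : x i = 0 := by
      have := hfL' x
      rw [hx, dotProduct_zero] at this
      exact (mul_eq_zero.1 this.symm).resolve_right hβ
    have h6 : θ (π x) = 0 := by
      have := hL x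
      rw [hx, h4, h5, zero_smul, zero_smul, zero_add, zero_add] at this
      exact Subtype.ext this.symm
    have h7 : π x = 0 := by rwa [LinearEquiv.map_eq_zero_iff] at h6
    have h8 := hπ x
    rw [h7, h4, h5, zero_smul, zero_smul, sub_zero, sub_zero] at h8
    exact h8.symm
  set M : Matrix ι ι F := LinearMap.toMatrix' L with hM
  have hMx : ∀ x, M *ᵥ x = L x := fun x => by rw [hM, LinearMap.toMatrix'_mulVec]
  have hdet : M.det ≠ 0 := by
    have h4 : IsUnit (LinearMap.det L) := by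
      have h5 := LinearEquiv.isUnit_det' (LinearEquiv.ofInjectiveEndo L hinj)
      exact h5
    rw [hM, LinearMap.det_toMatrix']
    exact h4.ne_zero
  obtain ⟨k, hk⟩ : ∃ k, k ∉ ({i, j} : Finset ι) := by
    by_contra h0
    push Not at h0
    have h4 : (Finset.univ : Finset ι) ⊆ {i, j} := fun a _ => h0 a
    have h5 := Finset.card_le_card h4
    rw [Finset.card_univ] at h5
    have h6 := Finset.card_le_two (a := i) (b := j)
    omega
  simp only [Finset.mem_insert, Finset.mem_singleton, not_or] at hk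
  set d : ι → F := Function.update 1 k (M.det)⁻¹ with hd
  have hdi : d i = 1 := by rw [hd, Function.update_of_ne (Ne.symm hk.1)]; rfl
  have hdj : d j = 1 := by rw [hd, Function.update_of_ne (Ne.symm hk.2)]; rfl
  have hdD : (Matrix.diagonal d).det = (M.det)⁻¹ := by
    rw [det_diagonal, hd, Finset.prod_update_of_mem (Finset.mem_univ k)]
    simp
  have hDi : ∀ l, d l = 1 → (Matrix.diagonal d) *ᵥ (Pi.single l 1) = Pi.single l 1 := by
    intro l hl
    rw [diagonal_mulVec_single, hl, one_mul]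
  have hDl : ∀ l, d l = 1 → (Pi.single l (1 : F)) ᵥ* (Matrix.diagonal d) = Pi.single l 1 := by
    intro l hl
    rw [single_vecMul_diagonal, hl, one_mul]
  have hrow : ∀ (g : ι → F) (l : ι) (γ : F), (∀ x, g ⬝ᵥ L x = x l * γ) → g ᵥ* M = γ • Pi.single l 1 := by
    intro g l γ hg
    ext m
    have h4 : (g ᵥ* M) m = (g ᵥ* M) ⬝ᵥ (Pi.single m 1) := by simp
    rw [h4, ← dotProduct_mulVec, hMx, hg]
    by_cases hml : m = l
    · subst hml
      simp
    · simp [hml, Ne.symm hml]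
  refine ⟨⟨M * Matrix.diagonal d, by rw [det_mul, hdD, mul_inv_cancel₀ hdet]⟩, ?_, ?_, ?_, ?_⟩
  · change (M * Matrix.diagonal d) *ᵥ _ = _
    rw [← mulVec_mulVec, hDi i hdi, hMx, hL]
    have h4 : π (Pi.single i 1) = 0 := by
      apply Subtype.ext
      rw [hπ]
      simp [hij]
    rw [h4]
    simp [hij]
  · change (M * Matrix.diagonal d) *ᵥ _ = _
    rw [← mulVec_mulVec, hDi j hdj, hMx, hL]
    have h4 : π (Pi.single j 1) = 0 := by
      apply Subtype.ext
      rw [hπ]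
      simp [hij.symm]
    rw [h4]
    simp [hij.symm]
  · change _ ᵥ* (M * Matrix.diagonal d) = _
    rw [← vecMul_vecMul, hrow f j _ hfL, smul_vecMul, hDl j hdj]
  · change _ ᵥ* (M * Matrix.diagonal d) = _
    rw [← vecMul_vecMul, hrow f' i _ hfL', smul_vecMul, hDl i hdi]

/-- transitivity on opposite pairs -/
theorem exists_trans (h3 : 3 ≤ Fintype.card ι) {v f v' f' w p w' p' : ι → F} (h1 : f ⬝ᵥ v = 0)
    (h2 : f' ⬝ᵥ v' = 0) (hα : f ⬝ᵥ v' ≠ 0) (hβ : f' ⬝ᵥ v ≠ 0) (k1 : p ⬝ᵥ w = 0) (k2 : p' ⬝ᵥ w' = 0)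
    (kα : p ⬝ᵥ w' = f ⬝ᵥ v') (kβ : p' ⬝ᵥ w = f' ⬝ᵥ v) :
    ∃ g : Matrix.SpecialLinearGroup ι F, (g : Matrix ι ι F) *ᵥ v = w ∧ (g : Matrix ι ι F) *ᵥ v' = w' ∧
      f ᵥ* ((g⁻¹ : Matrix.SpecialLinearGroup ι F) : Matrix ι ι F) = p ∧
      f' ᵥ* ((g⁻¹ : Matrix.SpecialLinearGroup ι F) : Matrix ι ι F) = p' := by
  obtain ⟨i, j, hij⟩ : ∃ i j : ι, i ≠ j := Fintype.exists_pair_of_one_lt_card (by omega)
  obtain ⟨A, a1, a2, a3, a4⟩ := exists_canon h3 h1 h2 hα hβ hij
  obtain ⟨B, b1, b2, b3, b4⟩ := exists_canon h3 k1 k2 (by rw [kα]; exact hα) (by rw [kβ]; exact hβ) hij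
  have hAA : ∀ C : Matrix.SpecialLinearGroup ι F,
      ((C⁻¹ : Matrix.SpecialLinearGroup ι F) : Matrix ι ι F) * (C : Matrix ι ι F) = 1 := by
    intro C
    rw [← Matrix.SpecialLinearGroup.coe_mul, inv_mul_cancel, Matrix.SpecialLinearGroup.coe_one]
  have hAA' : ∀ C : Matrix.SpecialLinearGroup ι F,
      (C : Matrix ι ι F) * ((C⁻¹ : Matrix.SpecialLinearGroup ι F) : Matrix ι ι F) = 1 := by
    intro C
    rw [← Matrix.SpecialLinearGroup.coe_mul, mul_inv_cancel, Matrix.SpecialLinearGroup.coe_one]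
  refine ⟨B * A⁻¹, ?_, ?_, ?_, ?_⟩
  · rw [← a1, Matrix.SpecialLinearGroup.coe_mul, mulVec_mulVec, mul_assoc, hAA, mul_one, b1]
  · rw [← a2, Matrix.SpecialLinearGroup.coe_mul, mulVec_mulVec, mul_assoc, hAA, mul_one, b2]
  · rw [_root_.mul_inv_rev, inv_inv, Matrix.SpecialLinearGroup.coe_mul, ← vecMul_vecMul, a3, ← kα, ← b3, vecMul_vecMul,
      hAA', vecMul_one]
  · rw [_root_.mul_inv_rev, inv_inv, Matrix.SpecialLinearGroup.coe_mul, ← vecMul_vecMul, a4, ← kβ, ← b4, vecMul_vecMul,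
      hAA', vecMul_one]

end Cfsg.Agent.H127.Gs
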