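import Cfsg.Agent.H127.Gs.Nat

/-!
# S4327: the natural subgroups `NatG F I` are isomorphic to `SL_{|I|}(F)`

* `emb e : SL κ F →* SL ι F` for `e : κ ↪ ι`, injective, with range `NatG F (univ.map e)`;
* `emb_tv`;
* `card_NatG`.
-/

set_option autoImplicit false

namespace Cfsg.Agent.H127.Gs

open Matrix Cfsg.Agent.H915.Gs

variable {F : Type*} [Field F] {ι : Type*} [Fintype ι] [DecidableEq ι] {κ : Type*} [Fintype κ] [DecidableEq κ]

/-- the inclusion matrix -/
def Em (F : Type*) [Field F] {ι : Type*} [DecidableEq ι] {κ : Type*} (e : κ ↪ ι) : Matrix ι κ F :=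
  Matrix.of fun x a => if x = e a then 1 else 0

omit [Fintype ι] in
theorem Em_mulVec (e : κ ↪ ι) (v : κ → F) : Em F e *ᵥ v = ∑ a, Pi.single (e a) (v a) := by
  ext x
  rw [Finset.sum_apply, mulVec, dotProduct]
  refine Finset.sum_congr rfl fun a _ => ?_
  by_cases h : x = e a
  · subst h; simp [Em]
  · simp [Em, h, Ne.symm h]

omit [Fintype ι] in
theorem Em_mulVec_apply (e : κ ↪ ι) (v : κ → F) (a : κ) : (Em F e *ᵥ v) (e a) = v a := by
  rw [Em_mulVec, Finset.sum_apply, Finset.sum_eq_single a]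
  · simp
  · intro b _ hb
    have : e a ≠ e b := fun h => hb (e.injective h).symm
    simp [this, this.symm]
  · intro h; exact absurd (Finset.mem_univ a) h

omit [Fintype ι] in
theorem Em_mulVec_of_notMem (e : κ ↪ ι) (v : κ → F) {x : ι} (hx : ∀ a, x ≠ e a) : (Em F e *ᵥ v) x = 0 := by
  rw [Em_mulVec, Finset.sum_apply]
  refine Finset.sum_eq_zero fun a _ => ?_
  simp [hx a]

theorem Em_T_mul (e : κ ↪ ι) : (Em F e)ᵀ * Em F e = 1 := by
  ext a b
  rw [mul_apply]
  simp only [transpose_apply, Em, of_apply]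
  by_cases hab : a = b
  · subst hab
    simp
  · rw [one_apply_ne hab]
    refine Finset.sum_eq_zero fun x _ => ?_
    by_cases h : x = e a
    · have : x ≠ e b := fun h' => hab (e.injective (h.symm.trans h'))
      simp [this]
    · simp [h]

/-- block inclusion of matrices -/
def embM (e : κ ↪ ι) (A : Matrix κ κ F) : Matrix ι ι F := 1 + Em F e * (A - 1) * (Em F e)ᵀ

theorem embM_mul (e : κ ↪ ι) (A B : Matrix κ κ F) : embM e (A * B) = embM e A * embM e B := by
  unfold embM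
  have h1 : Em F e * (A - 1) * (Em F e)ᵀ * (Em F e * (B - 1) * (Em F e)ᵀ) =
      Em F e * ((A - 1) * (B - 1)) * (Em F e)ᵀ := by
    calc Em F e * (A - 1) * (Em F e)ᵀ * (Em F e * (B - 1) * (Em F e)ᵀ)
        = Em F e * (A - 1) * ((Em F e)ᵀ * Em F e) * (B - 1) * (Em F e)ᵀ := by
          simp only [Matrix.mul_assoc]
      _ = _ := by rw [Em_T_mul, Matrix.mul_one]; simp only [Matrix.mul_assoc]
  rw [add_mul, one_mul, mul_add, mul_one, h1]
  have h2 : A * B - 1 = (A - 1) + (B - 1) + (A - 1) * (B - 1) := by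
    rw [sub_mul, mul_sub, mul_one, one_mul]
    abel
  rw [h2, Matrix.mul_add, Matrix.mul_add, Matrix.add_mul, Matrix.add_mul]
  abel

theorem embM_one (e : κ ↪ ι) : embM e (1 : Matrix κ κ F) = 1 := by
  unfold embM
  rw [sub_self, Matrix.mul_zero, Matrix.zero_mul, add_zero]

theorem det_embM (e : κ ↪ ι) (A : Matrix κ κ F) : (embM e A).det = A.det := by
  unfold embM
  rw [Matrix.mul_assoc, det_one_add_mul_comm, Matrix.mul_assoc, Em_T_mul, Matrix.mul_one, add_sub_cancel]

/-- the inclusion `SL κ F →* SL ι F` -/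
def emb (e : κ ↪ ι) : Matrix.SpecialLinearGroup κ F →* Matrix.SpecialLinearGroup ι F where
  toFun A := ⟨embM e (A : Matrix κ κ F), by rw [det_embM]; exact A.2⟩
  map_one' := sl_ext (embM_one e)
  map_mul' A B := sl_ext (embM_mul e _ _)

theorem coe_emb (e : κ ↪ ι) (A : Matrix.SpecialLinearGroup κ F) :
    ((emb e A : Matrix.SpecialLinearGroup ι F) : Matrix ι ι F) = embM e (A : Matrix κ κ F) := rfl

theorem embM_injective (e : κ ↪ ι) : Function.Injective (embM (F := F) e) := by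
  intro A B h
  unfold embM at h
  have h1 := add_left_cancel h
  have h2 : (Em F e)ᵀ * (Em F e * (A - 1) * (Em F e)ᵀ) * Em F e =
      (Em F e)ᵀ * (Em F e * (B - 1) * (Em F e)ᵀ) * Em F e := by rw [h1]
  have h3 : ∀ C : Matrix κ κ F, (Em F e)ᵀ * (Em F e * C * (Em F e)ᵀ) * Em F e = C := by
    intro C
    calc (Em F e)ᵀ * (Em F e * C * (Em F e)ᵀ) * Em F e
        = ((Em F e)ᵀ * Em F e) * C * ((Em F e)ᵀ * Em F e) := by simp only [Matrix.mul_assoc]
      _ = C := by rw [Em_T_mul, Matrix.one_mul, Matrix.mul_one]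
  rw [h3, h3] at h2
  exact sub_left_injective h2

theorem emb_injective (e : κ ↪ ι) : Function.Injective (emb (F := F) e) := by
  intro A B h
  exact sl_ext (embM_injective e (congrArg (fun g : Matrix.SpecialLinearGroup ι F => (g : Matrix ι ι F)) h))

theorem dot_Em (e : κ ↪ ι) (f v : κ → F) : (Em F e *ᵥ f) ⬝ᵥ (Em F e *ᵥ v) = f ⬝ᵥ v := by
  rw [dotProduct_mulVec, ← mulVec_transpose, mulVec_mulVec, Em_T_mul, one_mulVec]

theorem emb_tv (e : κ ↪ ι) {v f : κ → F} (h : f ⬝ᵥ v = 0) : emb e (tv v f) = tv (Em F e *ᵥ v) (Em F e *ᵥ f) := by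
  apply sl_ext
  rw [coe_emb, coe_tv h, coe_tv (by rw [dot_Em, h])]
  unfold embM
  rw [add_sub_cancel_left, mul_vecMulVec, vecMulVec_mul, vecMul_transpose]

omit [Fintype ι] in
theorem Em_mulVec_mem (e : κ ↪ ι) (v : κ → F) : Em F e *ᵥ v ∈ cs (F := F) (Finset.univ.map e) := by
  intro x hx
  apply Em_mulVec_of_notMem
  rintro a rfl
  exact hx (Finset.mem_map_of_mem e (Finset.mem_univ a))

omit [Fintype ι] in
theorem eq_Em_mulVec (e : κ ↪ ι) {v : ι → F} (hv : v ∈ cs (F := F) (Finset.univ.map e)) :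
    Em F e *ᵥ (fun a => v (e a)) = v := by
  ext x
  by_cases hx : ∃ a, x = e a
  · obtain ⟨a, rfl⟩ := hx
    rw [Em_mulVec_apply]
  · push Not at hx
    rw [Em_mulVec_of_notMem e _ hx, hv x]
    intro h
    obtain ⟨a, -, rfl⟩ := Finset.mem_map.1 h
    exact hx a rfl

theorem range_emb (e : κ ↪ ι) : (emb (F := F) e).range = NatG F (Finset.univ.map e) := by
  apply le_antisymm
  · rw [MonoidHom.range_eq_map, ← NatG_univ]
    unfold NatG
    rw [MonoidHom.map_closure, Subgroup.closure_le]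
    rintro _ ⟨_, ⟨v, -, f, -, h, rfl⟩, rfl⟩
    rw [emb_tv e h]
    exact Subgroup.subset_closure ⟨_, Em_mulVec_mem e v, _, Em_mulVec_mem e f, by rw [dot_Em, h], rfl⟩
  · apply NatG_le
    intro v hv f hf h
    rw [← eq_Em_mulVec e hv, ← eq_Em_mulVec e hf] at h ⊢
    rw [dot_Em] at h
    exact ⟨tv _ _, emb_tv e h⟩

/-- an embedding with given image -/
theorem exists_emb (I : Finset ι) {m : ℕ} (hm : I.card = m) : ∃ e : Fin m ↪ ι, Finset.univ.map e = I := by
  let e0 : Fin m ≃ I := (Finset.equivFinOfCardEq hm).symm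
  refine ⟨e0.toEmbedding.trans (Function.Embedding.subtype _), ?_⟩
  ext x
  rw [Finset.mem_map]
  constructor
  · rintro ⟨a, -, rfl⟩
    exact (e0 a).2
  · intro hx
    exact ⟨e0.symm ⟨x, hx⟩, Finset.mem_univ _, by simp⟩

theorem card_NatG (I : Finset ι) {m : ℕ} (hm : I.card = m) :
    Nat.card (NatG F I) = Nat.card (Matrix.SpecialLinearGroup (Fin m) F) := by
  obtain ⟨e, he⟩ := exists_emb I hm
  rw [← he, ← range_emb]
  exact (Nat.card_congr (MonoidHom.ofInjective (emb_injective e)).toEquiv).symm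

end Cfsg.Agent.H127.Gs
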