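import Cfsg.Agent.H127.Gs.Emb
import Cfsg.Agent.H974.Gs.Emb

/-!
# S4327: all natural subgroups `emb A B` (helper974) of `SL_n(F)` of the same dimension are conjugate

* `range_frame` : `B * A = 1`, `|κ| < |ι|`: `∃ g, cj g (emb A B h).range = NatG F I` for `|I| = |κ|`;
* `range_frame_top` : `|κ| = |ι|`: `(emb A B h).range = ⊤`.
-/

set_option autoImplicit false

namespace Cfsg.Agent.H127.Gs

open Matrix Module Cfsg.Agent.H915.Gs

variable {F : Type*} [Field F] {ι : Type*} [Fintype ι] [DecidableEq ι] {κ : Type*} [Fintype κ] [DecidableEq κ]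

omit [DecidableEq ι] in
theorem finrank_ker_frame {A : Matrix ι κ F} {B : Matrix κ ι F} (h : B * A = 1) :
    finrank F (LinearMap.ker B.mulVecLin) + Fintype.card κ = Fintype.card ι := by
  have hsurj : LinearMap.range B.mulVecLin = ⊤ := by
    rw [LinearMap.range_eq_top]
    intro y
    refine ⟨A *ᵥ y, ?_⟩
    rw [mulVecLin_apply, mulVec_mulVec, h, one_mulVec]
  have h3 := LinearMap.finrank_range_add_finrank_ker B.mulVecLin
  rw [hsurj, finrank_top, Module.finrank_fintype_fun_eq_card, Module.finrank_fintype_fun_eq_card] at h3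
  omega

theorem exists_frame {A : Matrix ι κ F} {B : Matrix κ ι F} (h : B * A = 1) (e : κ ↪ ι)
    (hlt : Fintype.card κ < Fintype.card ι) :
    ∃ C : Matrix.SpecialLinearGroup ι F, (C : Matrix ι ι F) * Em F e = A ∧ B * (C : Matrix ι ι F) = (Em F e)ᵀ := by
  classical
  set W := LinearMap.ker B.mulVecLin with hW
  set W0 := LinearMap.ker ((Em F e)ᵀ).mulVecLin with hW0
  have hd1 := finrank_ker_frame h
  have hd2 := finrank_ker_frame (Em_T_mul (F := F) e)
  have hdim : finrank F W0 = finrank F W := by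
    rw [hW, hW0]
    omega
  let θ : W0 ≃ₗ[F] W := LinearEquiv.ofFinrankEq _ _ hdim
  let π : (ι → F) →ₗ[F] W0 := LinearMap.codRestrict W0
    (LinearMap.id - (Em F e).mulVecLin ∘ₗ ((Em F e)ᵀ).mulVecLin) (by
      intro x
      rw [hW0, LinearMap.mem_ker, mulVecLin_apply]
      change (Em F e)ᵀ *ᵥ (x - Em F e *ᵥ ((Em F e)ᵀ *ᵥ x)) = 0
      rw [mulVec_sub, mulVec_mulVec, Em_T_mul, one_mulVec, sub_self])
  have hπ : ∀ x, ((π x : W0) : ι → F) = x - Em F e *ᵥ ((Em F e)ᵀ *ᵥ x) := fun x => rfl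
  let L : (ι → F) →ₗ[F] (ι → F) := A.mulVecLin ∘ₗ ((Em F e)ᵀ).mulVecLin + W.subtype ∘ₗ θ.toLinearMap ∘ₗ π
  have hL : ∀ x, L x = A *ᵥ ((Em F e)ᵀ *ᵥ x) + ((θ (π x) : W) : ι → F) := fun x => rfl
  have hBW : ∀ w : W, B *ᵥ (w : ι → F) = 0 := by
    intro w
    have h4 : (w : ι → F) ∈ LinearMap.ker B.mulVecLin := w.2
    rwa [LinearMap.mem_ker, mulVecLin_apply] at h4
  have hBL : ∀ x, B *ᵥ L x = (Em F e)ᵀ *ᵥ x := by
    intro x
    rw [hL, mulVec_add, hBW, add_zero, mulVec_mulVec, h, one_mulVec]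
  have hinj : Function.Injective L := by
    rw [← LinearMap.ker_eq_bot, LinearMap.ker_eq_bot']
    intro x hx
    have h4 : (Em F e)ᵀ *ᵥ x = 0 := by
      have := hBL x
      rw [hx, mulVec_zero] at this
      exact this.symm
    have h6 : θ (π x) = 0 := by
      have := hL x
      rw [hx, h4, mulVec_zero, zero_add] at this
      exact Subtype.ext this.symm
    have h7 : π x = 0 := by rwa [LinearEquiv.map_eq_zero_iff] at h6
    have h8 := hπ x
    rw [h7, h4, mulVec_zero, sub_zero] at h8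
    exact h8.symm
  set M : Matrix ι ι F := LinearMap.toMatrix' L with hM
  have hMx : ∀ x, M *ᵥ x = L x := fun x => by rw [hM, LinearMap.toMatrix'_mulVec]
  have hdet : M.det ≠ 0 := by
    have h4 : IsUnit (LinearMap.det L) := LinearEquiv.isUnit_det' (LinearEquiv.ofInjectiveEndo L hinj)
    rw [hM, LinearMap.det_toMatrix']
    exact h4.ne_zero
  obtain ⟨k, hk⟩ : ∃ k, ∀ a, k ≠ e a := by
    by_contra h0
    push Not at h0
    have h5 : Function.Surjective e := fun k => by
      obtain ⟨a, ha⟩ := h0 k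
      exact ⟨a, ha.symm⟩
    have := Fintype.card_le_of_surjective e h5
    omega
  set d : ι → F := Function.update 1 k (M.det)⁻¹ with hd
  have hdD : (Matrix.diagonal d).det = (M.det)⁻¹ := by
    rw [det_diagonal, hd, Finset.prod_update_of_mem (Finset.mem_univ k)]
    simp
  have hda : ∀ a, d (e a) = 1 := fun a => by rw [hd, Function.update_of_ne (Ne.symm (hk a))]; rfl
  have hDE : Matrix.diagonal d * Em F e = Em F e := by
    ext x a
    rw [diagonal_mul]
    by_cases hx : x = e a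
    · subst hx; rw [hda, one_mul]
    · simp [Em, hx]
  have hED : (Em F e)ᵀ * Matrix.diagonal d = (Em F e)ᵀ := by
    ext a x
    rw [mul_diagonal]
    by_cases hx : x = e a
    · subst hx; rw [hda, mul_one]
    · simp [Em, hx]
  have hME : M * Em F e = A := by
    apply mulVec_injective
    funext y
    rw [← mulVec_mulVec, hMx, hL, mulVec_mulVec y (Em F e)ᵀ (Em F e), Em_T_mul, one_mulVec]
    have h4 : π (Em F e *ᵥ y) = 0 := by
      apply Subtype.ext
      rw [hπ, mulVec_mulVec y (Em F e)ᵀ (Em F e), Em_T_mul, one_mulVec, sub_self]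
      rfl
    rw [h4, map_zero]
    simp
  have hBM : B * M = (Em F e)ᵀ := by
    apply mulVec_injective
    funext y
    rw [← mulVec_mulVec, hMx, hBL]
  refine ⟨⟨M * Matrix.diagonal d, by rw [det_mul, hdD, mul_inv_cancel₀ hdet]⟩, ?_, ?_⟩
  · change M * Matrix.diagonal d * Em F e = A
    rw [Matrix.mul_assoc, hDE, hME]
  · change B * (M * Matrix.diagonal d) = (Em F e)ᵀ
    rw [← Matrix.mul_assoc, hBM, hED]

/-- **all natural subgroups are conjugate** -/
theorem range_frame {A : Matrix ι κ F} {B : Matrix κ ι F} (h : B * A = 1)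
    (hlt : Fintype.card κ < Fintype.card ι) {I : Finset ι} (hI : I.card = Fintype.card κ) :
    ∃ g : Matrix.SpecialLinearGroup ι F, cj g (Cfsg.Agent.H974.Gs.emb A B h).range = NatG F I := by
  obtain ⟨e', he'⟩ := exists_emb I hI
  let e : κ ↪ ι := (Fintype.equivFin κ).toEmbedding.trans e'
  have he : Finset.univ.map e = I := by
    rw [← he', ← Finset.map_map, Finset.map_univ_equiv]
  obtain ⟨C, hC1, hC2⟩ := exists_frame h e hlt
  have hCC : ((C⁻¹ : Matrix.SpecialLinearGroup ι F) : Matrix ι ι F) * (C : Matrix ι ι F) = 1 := by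
    rw [← Matrix.SpecialLinearGroup.coe_mul, inv_mul_cancel, Matrix.SpecialLinearGroup.coe_one]
  have hCC' : (C : Matrix ι ι F) * ((C⁻¹ : Matrix.SpecialLinearGroup ι F) : Matrix ι ι F) = 1 := by
    rw [← Matrix.SpecialLinearGroup.coe_mul, mul_inv_cancel, Matrix.SpecialLinearGroup.coe_one]
  have key : ∀ s : Matrix.SpecialLinearGroup κ F,
      C⁻¹ * Cfsg.Agent.H974.Gs.emb A B h s * C = emb e s := by
    intro s
    apply sl_ext
    rw [Matrix.SpecialLinearGroup.coe_mul, Matrix.SpecialLinearGroup.coe_mul, Cfsg.Agent.H974.Gs.coe_emb, coe_emb]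
    unfold embM
    rw [mul_add, mul_one, add_mul, hCC, ← hC1, ← hC2]
    congr 1
    have e1 : ((C⁻¹ : Matrix.SpecialLinearGroup ι F) : Matrix ι ι F) *
        (((C : Matrix ι ι F) * Em F e) * ((s : Matrix κ κ F) - 1) * B) * (C : Matrix ι ι F) =
        (((C⁻¹ : Matrix.SpecialLinearGroup ι F) : Matrix ι ι F) * (C : Matrix ι ι F)) * Em F e *
          ((s : Matrix κ κ F) - 1) * (B * (C : Matrix ι ι F)) := by
      simp only [Matrix.mul_assoc]
    rw [e1, hCC, Matrix.one_mul]
  refine ⟨C⁻¹, ?_⟩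
  rw [← he, ← range_emb, MonoidHom.range_eq_map, MonoidHom.range_eq_map, cj, Subgroup.map_map]
  congr 1
  ext1 s
  change C⁻¹ * Cfsg.Agent.H974.Gs.emb A B h s * C⁻¹⁻¹ = emb e s
  rw [inv_inv, key]

theorem range_frame_top {A : Matrix ι κ F} {B : Matrix κ ι F} (h : B * A = 1)
    (heq : Fintype.card κ = Fintype.card ι) : (Cfsg.Agent.H974.Gs.emb A B h).range = ⊤ := by
  have hAB : A * B = 1 := (mul_eq_one_comm_of_card_eq _ _ _ heq).1 h
  rw [eq_top_iff]
  intro s _
  refine ⟨⟨B * (s : Matrix ι ι F) * A, ?_⟩, ?_⟩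
  · have h1 : (B * (s : Matrix ι ι F) * A).det = (1 + B * ((s : Matrix ι ι F) - 1) * A).det := by
      congr 1
      rw [Matrix.mul_sub, Matrix.mul_one, Matrix.sub_mul, h, add_sub_cancel]
    rw [h1, Matrix.mul_assoc, det_one_add_mul_comm, Matrix.mul_assoc, hAB, Matrix.mul_one, add_sub_cancel]
    exact s.2
  · apply sl_ext
    change 1 + A * (B * (s : Matrix ι ι F) * A - 1) * B = _
    rw [Matrix.mul_sub, Matrix.mul_one, Matrix.sub_mul, hAB]
    have e1 : A * (B * (s : Matrix ι ι F) * A) * B = (A * B) * (s : Matrix ι ι F) * (A * B) := by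
      simp only [Matrix.mul_assoc]
    rw [e1, hAB, Matrix.one_mul, Matrix.mul_one, add_sub_cancel]

end Cfsg.Agent.H127.Gs
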