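import Cfsg.Agent.H127.Gs.Canon
import Cfsg.Agent.LieClassical.SLGen
import Cfsg.Agent.H915.Gs.Chain

/-!
# S4327: natural subgroups of `SL_n(F)` on coordinates, growth

* `cs I` : the vectors supported on `I : Finset ι`;
* `NatG I` : the group generated by the transvections `tv v f`, `v, f ∈ cs I` (the natural `SL_{|I|}`), `NatG univ = ⊤`;
* `Opp a` : `a` maps some transvection to an opposite one;
* `reach_grow` : `Reach a k (NatG I) → Reach a (k + 1) (NatG (insert c I))`;
* `reach_card` : from one natural `SL_2` to all natural subgroups;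

-/

set_option autoImplicit false

namespace Cfsg.Agent.H127.Gs

open Matrix Cfsg.Agent.H915.Gs

variable {F : Type*} [Field F] {ι : Type*} [Fintype ι] [DecidableEq ι]

/-- the vectors supported on `I` -/
def cs (I : Finset ι) : Submodule F (ι → F) where
  carrier := {v | ∀ i, i ∉ I → v i = 0}
  add_mem' := fun {v w} hv hw i hi => by rw [Pi.add_apply, hv i hi, hw i hi, add_zero]
  zero_mem' := fun i _ => rfl
  smul_mem' := fun c v hv i hi => by rw [Pi.smul_apply, hv i hi, smul_zero]

omit [Fintype ι] [DecidableEq ι] in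
theorem mem_cs {I : Finset ι} {v : ι → F} : v ∈ cs (F := F) I ↔ ∀ i, i ∉ I → v i = 0 := Iff.rfl

omit [Fintype ι] in
theorem single_mem_cs {I : Finset ι} {i : ι} (hi : i ∈ I) (c : F) : (Pi.single i c : ι → F) ∈ cs (F := F) I := by
  intro j hj
  have : j ≠ i := fun h => hj (h ▸ hi)
  simp [this]

omit [Fintype ι] [DecidableEq ι] in
theorem cs_mono {I J : Finset ι} (h : I ⊆ J) : cs (F := F) I ≤ cs J := fun _ hv i hi => hv i fun h' => hi (h h')

/-- the natural subgroup on `I` -/
noncomputable def NatG (F : Type*) [Field F] {ι : Type*} [Fintype ι] [DecidableEq ι] (I : Finset ι) :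
    Subgroup (Matrix.SpecialLinearGroup ι F) :=
  Subgroup.closure {g | ∃ v ∈ cs (F := F) I, ∃ f ∈ cs (F := F) I, f ⬝ᵥ v = 0 ∧ g = tv v f}

theorem hasT_NatG (I : Finset ι) : HasT (NatG F I) (cs I) (cs I) :=
  fun v hv f hf h => Subgroup.subset_closure ⟨v, hv, f, hf, h, rfl⟩

theorem NatG_le {H : Subgroup (Matrix.SpecialLinearGroup ι F)} {I : Finset ι} (h : HasT H (cs I) (cs I)) :
    NatG F I ≤ H := by
  unfold NatG
  rw [Subgroup.closure_le]
  rintro _ ⟨v, hv, f, hf, hvf, rfl⟩
  exact h v hv f hf hvf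

theorem NatG_mono {I J : Finset ι} (h : I ⊆ J) : NatG F I ≤ NatG F J :=
  NatG_le fun v hv f hf hvf => hasT_NatG J v (cs_mono h hv) f (cs_mono h hf) hvf

theorem transvection_eq_tv {i j : ι} (h : i ≠ j) (c : F) :
    Matrix.SpecialLinearGroup.transvection h c = tv (Pi.single i c) (Pi.single j 1) := by
  apply sl_ext
  rw [coe_tv (by simp [h])]
  ext a b
  change Matrix.transvection i j c a b = _
  rw [Matrix.transvection, Matrix.add_apply, Matrix.add_apply, vecMulVec_apply]
  congr 1
  by_cases ha : a = i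
  · subst ha
    by_cases hb : b = j
    · subst hb; simp
    · simp [hb, Ne.symm hb]
  · simp [ha, Ne.symm ha]

theorem NatG_univ : NatG F (Finset.univ : Finset ι) = ⊤ := by
  rw [eq_top_iff, ← Cfsg.Agent.LieClassical.SLGen.closure_transvections, Subgroup.closure_le]
  rintro _ ⟨i, j, h, c, rfl⟩
  rw [SetLike.mem_coe, transvection_eq_tv h c]
  exact hasT_NatG _ _ (single_mem_cs (Finset.mem_univ _) _) _ (single_mem_cs (Finset.mem_univ _) _)
    (by simp [h])

theorem sep_aux (I : Finset ι) {v : ι → F} (hv : v ∈ cs (F := F) I) (hv0 : v ≠ 0) {w : ι → F}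
    (hw : w ∈ cs (F := F) I) (hwv : ∀ c : F, w ≠ c • v) (α β : F) :
    ∃ f ∈ cs (F := F) I, f ⬝ᵥ v = α ∧ f ⬝ᵥ w = β := by
  obtain ⟨i, hi⟩ : ∃ i, v i ≠ 0 := by
    by_contra h
    push Not at h
    exact hv0 (funext h)
  have hiI : i ∈ I := by
    by_contra h
    exact hi (hv i h)
  set γ := w i / v i with hγ
  obtain ⟨j, hj⟩ : ∃ j, w j - γ * v j ≠ 0 := by
    by_contra h
    push Not at h
    exact hwv γ (funext fun j => sub_eq_zero.1 (h j))
  have hjI : j ∈ I := by
    by_contra h
    apply hj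
    rw [hw j h, hv j h, mul_zero, sub_zero]
  have hγi : γ * v i = w i := div_mul_cancel₀ _ hi
  set y := (β - γ * α) / (w j - γ * v j) with hy
  have hyj : y * (w j - γ * v j) = β - γ * α := div_mul_cancel₀ _ hj
  set x := (α - y * v j) / v i with hx
  have hxi : x * v i = α - y * v j := div_mul_cancel₀ _ hi
  refine ⟨Pi.single i x + Pi.single j y, (cs I).add_mem (single_mem_cs hiI _) (single_mem_cs hjI _), ?_, ?_⟩
  · rw [add_dotProduct, single_dotProduct, single_dotProduct, hxi]
    ring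
  · rw [add_dotProduct, single_dotProduct, single_dotProduct, ← hγi]
    linear_combination γ * hxi + hyj

theorem sep_cs (I : Finset ι) : Sep (F := F) (cs I) (cs I) := by
  refine ⟨fun v hv hv0 w hw hwv α β => sep_aux I hv hv0 hw hwv α β, fun v hv hv0 w hw hwv α β => ?_⟩
  obtain ⟨f, hf, h1, h2⟩ := sep_aux I hv hv0 hw hwv α β
  exact ⟨f, hf, by rw [dotProduct_comm]; exact h1, by rw [dotProduct_comm]; exact h2⟩

omit [Fintype ι] in
theorem cs_insert_le {I : Finset ι} {c : ι} {γ : F} (hγ : γ ≠ 0) :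
    cs (F := F) (insert c I) ≤ cs I ⊔ Submodule.span F {(Pi.single c γ : ι → F)} := by
  intro v hv
  rw [Submodule.mem_sup]
  refine ⟨v - Pi.single c (v c), ?_, Pi.single c (v c), ?_, by abel⟩
  · intro i hi
    by_cases hic : i = c
    · subst hic; simp
    · have h1 := hv i (by rw [Finset.mem_insert, not_or]; exact ⟨hic, hi⟩)
      simp [hic, h1]
  · rw [Submodule.mem_span_singleton]
    refine ⟨v c / γ, ?_⟩
    rw [← Pi.single_smul', smul_eq_mul, div_mul_cancel₀ _ hγ]

theorem HasT.mono {H : Subgroup (Matrix.SpecialLinearGroup ι F)} {P Q P' Q' : Submodule F (ι → F)}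
    (h : HasT H P Q) (hP : P' ≤ P) (hQ : Q' ≤ Q) : HasT H P' Q' := fun v hv f hf hvf => h v (hP hv) f (hQ hf) hvf

/-- **growth, with a standard transvection** -/
theorem NatG_grow {H : Subgroup (Matrix.SpecialLinearGroup ι F)} {I : Finset ι} (hI : NatG F I ≤ H) {d e c : ι}
    (hd : d ∈ I) (he : e ∈ I) (hde : d ≠ e) (hc : c ∉ I) {α β : F} (hα : α ≠ 0) (hβ : β ≠ 0)
    (ht : tv (Pi.single d α + Pi.single c 1) (Pi.single e β + Pi.single d 1 + Pi.single c (-α)) ∈ H) :
    NatG F (insert c I) ≤ H := by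
  have hT : HasT H (cs I) (cs I) := fun v hv f hf hvf => hI (hasT_NatG I v hv f hf hvf)
  have hcd : c ≠ d := fun h => hc (h ▸ hd)
  have hce : c ≠ e := fun h => hc (h ▸ he)
  have h1 := hT.grow (sep_cs I) (a₀ := Pi.single d α) (c := Pi.single c 1)
    (fA := Pi.single e β + Pi.single d 1) (fC := Pi.single c (-α)) (single_mem_cs hd _)
    ((cs I).add_mem (single_mem_cs he _) (single_mem_cs hd _))
    (by simp [hde, hα]) (by
      intro f hf
      rw [dotProduct_single, hf c hc, zero_mul]) (by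
      intro v hv
      rw [single_dotProduct, hv c hc, mul_zero]) (by simp [hde])
    ⟨Pi.single e 1 - Pi.single d β, (cs (F := F) I).sub_mem (single_mem_cs he 1) (single_mem_cs hd β), by
      intro h
      have := congrFun h e
      simp [hde, hde.symm] at this, by simp [hde, hde.symm]⟩
    ⟨Pi.single e 1, single_mem_cs he _, by
      intro h
      have := congrFun h e
      simp at this, by simp [hde.symm]⟩ ht
  exact NatG_le (h1.mono (cs_insert_le one_ne_zero) (cs_insert_le (neg_ne_zero.2 hα)))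

/-- `a` maps some transvection to an opposite one -/
def Opp (a : MulAut (Matrix.SpecialLinearGroup ι F)) : Prop :=
  ∃ v f v' f' : ι → F, f ⬝ᵥ v = 0 ∧ f' ⬝ᵥ v' = 0 ∧ f ⬝ᵥ v' ≠ 0 ∧ f' ⬝ᵥ v ≠ 0 ∧ a (tv v f) = tv v' f'

/-- **growth** -/
theorem reach_grow (h3 : 3 ≤ Fintype.card ι) {a : MulAut (Matrix.SpecialLinearGroup ι F)} (ha : Opp a) {k : ℕ}
    {I : Finset ι} (hI : 2 ≤ I.card) {c : ι} (hc : c ∉ I) (h : Reach a k (NatG F I)) :
    Reach a (k + 1) (NatG F (insert c I)) := by
  obtain ⟨v, f, v', f', h1, h2, hα, hβ, hat⟩ := ha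
  obtain ⟨d, hd, e, he, hde⟩ := Finset.one_lt_card.1 (show 1 < I.card by omega)
  have hcd : c ≠ d := fun h => hc (h ▸ hd)
  have hce : c ≠ e := fun h => hc (h ▸ he)
  obtain ⟨g, g1, g2, g3, g4⟩ := exists_trans h3 h1 h2 hα hβ (w := Pi.single e 1) (p := Pi.single d 1)
    (w' := Pi.single d (f ⬝ᵥ v') + Pi.single c 1)
    (p' := Pi.single e (f' ⬝ᵥ v) + Pi.single d 1 + Pi.single c (-(f ⬝ᵥ v')))
    (by simp [hde]) (by simp [hde, hcd, hce, hcd.symm, hce.symm, hde.symm]) (by simp [hcd, hcd.symm])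
    (by simp [hde, hde.symm, hce, hce.symm])
  have hJ : cj g (Subgroup.zpowers (tv v f)) ≤ NatG F I := by
    rw [cj, MonoidHom.map_zpowers, Subgroup.zpowers_le]
    change g * tv v f * g⁻¹ ∈ _
    rw [conj_tv g h1, g1, g3]
    exact hasT_NatG I _ (single_mem_cs he _) _ (single_mem_cs hd _) (by simp [hde])
  refine (h.grow hJ).sub ?_
  refine NatG_grow le_sup_left hd he hde hc hα hβ ?_
  refine Subgroup.mem_sup_right ?_
  rw [im, MonoidHom.map_zpowers, cj, MonoidHom.map_zpowers]
  have h4 : (MulAut.conj g).toMonoidHom (a.toMonoidHom (tv v f)) =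
      tv (Pi.single d (f ⬝ᵥ v') + Pi.single c 1)
        (Pi.single e (f' ⬝ᵥ v) + Pi.single d 1 + Pi.single c (-(f ⬝ᵥ v'))) := by
    change g * a (tv v f) * g⁻¹ = _
    rw [hat, conj_tv g h2, g2, g4]
  rw [h4]
  exact Subgroup.mem_zpowers _

/-- all natural subgroups containing a given one -/
theorem reach_of_subset (h3 : 3 ≤ Fintype.card ι) {a : MulAut (Matrix.SpecialLinearGroup ι F)} (ha : Opp a) {k : ℕ}
    {I : Finset ι} (hI : 2 ≤ I.card) (h : Reach a k (NatG F I)) {J : Finset ι} (hIJ : I ⊆ J) :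
    Reach a (k + (J.card - I.card)) (NatG F J) := by
  induction hn : J.card - I.card generalizing J with
  | zero =>
    have : J = I := (Finset.eq_of_subset_of_card_le hIJ (by omega)).symm
    rw [this]
    exact h
  | succ n ih =>
    obtain ⟨c, hcJ, hcI⟩ : ∃ c ∈ J, c ∉ I := by
      by_contra h0
      push Not at h0
      have h5 := Finset.card_le_card (show J ⊆ I from h0)
      omega
    have h4 := ih (J := J.erase c) (fun i hi => Finset.mem_erase.2 ⟨fun h0 => hcI (h0 ▸ hi), hIJ hi⟩) (by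
      rw [Finset.card_erase_of_mem hcJ]
      omega)
    have h5 : 2 ≤ (J.erase c).card := by
      rw [Finset.card_erase_of_mem hcJ]
      omega
    have h6 := reach_grow h3 ha h5 (Finset.notMem_erase c J) h4
    rw [Finset.insert_erase hcJ] at h6
    exact h6

/-- everything -/
theorem reach_top (h3 : 3 ≤ Fintype.card ι) {a : MulAut (Matrix.SpecialLinearGroup ι F)} (ha : Opp a) {k : ℕ}
    {I : Finset ι} (hI : I.card = 2) (h : Reach a k (NatG F I)) : Reach a (k + (Fintype.card ι - 2)) ⊤ := by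
  have h1 := reach_of_subset h3 ha hI.ge h (Finset.subset_univ I)
  rwa [NatG_univ, Finset.card_univ, hI] at h1

end Cfsg.Agent.H127.Gs
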