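import Cfsg.Agent.H127.Gs.Hom
import Cfsg.Agent.H974.Gs.Emb

/-!
# S4327: `SL_n(2)`, `g` not quadratic: START from a special pair

`start_two` : `q = 2`, `v, g v, g² v` independent: three conjugates reach the natural `SL_2(2)`.
-/

set_option autoImplicit false

namespace Cfsg.Agent.H127.Gs

open Matrix Cfsg.Agent.H915.Gs Cfsg.Agent.H974.Gs

variable {F : Type*} [Field F] {ι : Type*} [Fintype ι] [DecidableEq ι]

omit [DecidableEq ι] in
/-- functionals with prescribed values on an independent family -/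
theorem exists_dual_of_linearIndependent {κ : Type*} {b : κ → ι → F} (hb : LinearIndependent F b) (c : κ → F) :
    ∃ f : ι → F, ∀ i, f ⬝ᵥ b i = c i := by
  classical
  obtain ⟨φ, hφ⟩ := LinearMap.exists_extend ((Module.Basis.span hb).constr F c)
  refine ⟨fun i => φ (Pi.single i 1), fun k => ?_⟩
  have h1 : ∀ x : ι → F, (fun i => φ (Pi.single i 1)) ⬝ᵥ x = φ x := by
    intro x
    have hx : x = ∑ i, x i • (Pi.single i (1 : F) : ι → F) := by
      ext j
      simp [Finset.sum_apply, Pi.single_apply]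
    conv_rhs => rw [hx]
    rw [map_sum, dotProduct]
    refine Finset.sum_congr rfl fun i _ => ?_
    rw [map_smul, smul_eq_mul, mul_comm]
  rw [h1]
  have h2 := LinearMap.congr_fun hφ (Module.Basis.span hb k)
  rw [LinearMap.comp_apply, Module.Basis.constr_basis] at h2
  rw [← h2, Module.Basis.span_apply]
  rfl

theorem eq_one_of_card_two [Finite F] (hF : Nat.card F = 2) {c : F} (hc : c ≠ 0) : c = 1 := by
  classical
  by_contra h1
  have h3 : ({0, 1, c} : Finset F).card = 3 := by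
    rw [Finset.card_eq_three]
    exact ⟨0, 1, c, zero_ne_one, Ne.symm hc, Ne.symm h1, rfl⟩
  have : Fintype F := Fintype.ofFinite F
  have h4 := Finset.card_le_univ ({0, 1, c} : Finset F)
  rw [h3, ← Nat.card_eq_fintype_card, hF] at h4
  omega

/-- `q = 2`: from one transvection to the natural `SL_2(2)` -/
theorem reach_two_of_transvection [Finite F] (hF : Nat.card F = 2) (h3 : 3 ≤ Fintype.card ι)
    {a : MulAut (Matrix.SpecialLinearGroup ι F)} (ha : Opp a) {k : ℕ} {v f : ι → F} (hv : v ≠ 0) (hf : f ≠ 0)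
    (h : f ⬝ᵥ v = 0) (hR : Reach a k (Subgroup.zpowers (tv v f))) {I : Finset ι} (hI : I.card = 2) :
    Reach a (k + 1) (NatG F I) := by
  obtain ⟨v0, f0, v0', f0', h1, h2, hα, hβ, hat⟩ := ha
  obtain ⟨i, j, l, -, -, hij, hl, hN⟩ := nat_two (Or.inr hF) hI
  obtain rfl := eq_one_of_card_two hF hl
  have hs : ∀ (k : ι), (Pi.single k (1 : F) : ι → F) ≠ 0 := by
    intro k h0
    have := congrFun h0 k
    rw [Pi.single_eq_same] at this
    exact one_ne_zero this
  obtain ⟨g, hg⟩ := conj_transvection h3 hv hf h (hs j) (hs i) (by simp [hij])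
  obtain ⟨g0, g1, g2, g3, g4⟩ := exists_trans h3 h1 h2 hα hβ (w := Pi.single j 1) (p := Pi.single i 1)
    (w' := Pi.single i 1) (p' := Pi.single j 1) (by simp [hij]) (by simp [hij.symm])
    (by rw [eq_one_of_card_two hF hα]; simp) (by rw [eq_one_of_card_two hF hβ]; simp)
  have hR1 : Reach a k (Subgroup.zpowers (tv (Pi.single j 1) (Pi.single i (1 : F)))) := by
    refine (hR.conj g).sub ?_
    rw [cj, MonoidHom.map_zpowers, Subgroup.zpowers_le]
    change _ ∈ Subgroup.zpowers (g * tv v f * g⁻¹)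
    rw [hg]
    exact Subgroup.mem_zpowers _
  have hJ : cj g0 (Subgroup.zpowers (tv v0 f0)) ≤ Subgroup.zpowers (tv (Pi.single j 1) (Pi.single i (1 : F))) := by
    rw [cj, MonoidHom.map_zpowers, Subgroup.zpowers_le]
    change g0 * tv v0 f0 * g0⁻¹ ∈ _
    rw [conj_tv g0 h1, g1, g3]
    exact Subgroup.mem_zpowers _
  refine (hR1.grow hJ).sub ?_
  rw [hN, Subgroup.closure_le]
  rintro x (rfl | hx)
  · exact Subgroup.mem_sup_left (Subgroup.mem_zpowers _)
  · rw [Set.mem_singleton_iff] at hx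
    subst hx
    refine Subgroup.mem_sup_right ?_
    rw [im, MonoidHom.map_zpowers, cj, MonoidHom.map_zpowers]
    have h4 : (MulAut.conj g0).toMonoidHom (a.toMonoidHom (tv v0 f0)) =
        tv (Pi.single i 1) (Pi.single j 1) := by
      change g0 * a (tv v0 f0) * g0⁻¹ = _
      rw [hat, conj_tv g0 h2, g2, g4]
    rw [h4]
    exact Subgroup.mem_zpowers _

/-- **START, `q = 2`, `g` not quadratic** -/
theorem start_two' [Finite F] (hF : Nat.card F = 2) (h3 : 3 ≤ Fintype.card ι) (g : GL ι F) (v : ι → F)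
    (hv : LinearIndependent F ![v, (g : Matrix ι ι F) *ᵥ v, (g : Matrix ι ι F) *ᵥ ((g : Matrix ι ι F) *ᵥ v)])
    {I : Finset ι} (hI : I.card = 2) : Opp (glc g) ∧ Reach (glc g) 3 (NatG F I) := by
  set x := (g : Matrix ι ι F) *ᵥ v with hx
  set y := (g : Matrix ι ι F) *ᵥ x with hy
  have hgx : ((g⁻¹ : GL ι F) : Matrix ι ι F) *ᵥ x = v := by
    rw [hx, mulVec_mulVec, val_inv_mul, one_mulVec]
  obtain ⟨f, hf⟩ := exists_dual_of_linearIndependent hv ![1, 0, 0]
  obtain ⟨f', hf'⟩ := exists_dual_of_linearIndependent hv ![1, 0, 1]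
  have f1 : f ⬝ᵥ v = 1 := hf 0
  have f2 : f ⬝ᵥ x = 0 := hf 1
  have f3 : f ⬝ᵥ y = 0 := hf 2
  have k1 : f' ⬝ᵥ v = 1 := hf' 0
  have k2 : f' ⬝ᵥ x = 0 := hf' 1
  have k3 : f' ⬝ᵥ y = 1 := hf' 2
  have hop : Opp (glc g) := by
    refine ⟨x, f', _, _, k2, ?_, ?_, ?_, glc_tv g k2⟩
    · rw [dotProduct_mulVec, vecMul_vecMul, val_inv_mul, vecMul_one, k2]
    · rw [k3]; exact one_ne_zero
    · rw [← dotProduct_mulVec, hgx, k1]; exact one_ne_zero
  refine ⟨hop, ?_⟩
  -- the special pair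
  set p := f ᵥ* ((g⁻¹ : GL ι F) : Matrix ι ι F) with hp
  have p1 : p ⬝ᵥ y = 0 := by
    rw [hp, hy, dotProduct_mulVec, vecMul_vecMul, val_inv_mul, vecMul_one, f2]
  have p2 : p ⬝ᵥ x = 1 := by rw [hp, ← dotProduct_mulVec, hgx, f1]
  have hau : glc g (tv x f) = tv y p := glc_tv g f2
  have h2 : (2 : F) = 0 := by
    by_contra h0
    have h1 := eq_one_of_card_two hF h0
    have h4 : (1 : F) = 0 := by linear_combination h1
    exact one_ne_zero h4
  have hneg : ∀ z : ι → F, -z = z := by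
    intro z
    ext i
    have : z i + z i = 0 := by linear_combination h2 * z i
    rw [Pi.neg_apply, neg_eq_iff_add_eq_zero, this]
  have hcomm : tv x f * (tv y p)⁻¹ * (tv x f * (tv y p)⁻¹) = tv y f := by
    have e1 : (tv x f)⁻¹ = tv x f := by rw [tv_inv f2, hneg]
    have e2 : (tv y p)⁻¹ = tv y p := by rw [tv_inv p1, hneg]
    have e3 := conj_tv_tv f2 p1
    rw [f3, p2, zero_smul, add_zero, one_smul, e1] at e3
    rw [e2, ← mul_assoc, e3, ← tv_add_right (by rw [sub_dotProduct, p1, f3, sub_zero]) p1]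
    congr 1
    ext i
    rw [Pi.add_apply, Pi.sub_apply]
    linear_combination (p i - f i) * h2
  have hR : Reach (glc g) 2 (Subgroup.zpowers (tv y f)) := by
    refine ((Reach₁.comm (glc g) (fun _ : Fin 1 => tv x f)).reach).sub ?_
    rw [Subgroup.zpowers_le, ← hcomm]
    have h4 : tv x f * (tv y p)⁻¹ ∈ Subgroup.closure (Set.range fun _ : Fin 1 => tv x f * (glc g (tv x f))⁻¹) := by
      rw [← hau]
      exact Subgroup.subset_closure ⟨0, rfl⟩
    exact mul_mem h4 h4
  have hy0 : y ≠ 0 := by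
    intro h0
    rw [h0, dotProduct_zero] at k3
    exact zero_ne_one k3
  have hf0 : f ≠ 0 := by
    intro h0
    rw [h0, zero_dotProduct] at f1
    exact zero_ne_one f1
  exact reach_two_of_transvection hF h3 hop hy0 hf0 f3 hR hI

/-- the form wanted by helper974 -/
theorem start_two {F : Type*} [Field F] [Fintype F] (hF : Fintype.card F = 2) {n : ℕ} (hn : 3 ≤ n) (g : GL (Fin n) F)
    (v : Fin n → F) (hv : LinearIndependent F ![v, (g : Matrix (Fin n) (Fin n) F) *ᵥ v,
      (g : Matrix (Fin n) (Fin n) F) *ᵥ ((g : Matrix (Fin n) (Fin n) F) *ᵥ v)]) {I : Finset (Fin n)}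
    (hI : I.card = 2) : Reach (glc g) 3 (NatG F I) :=
  (start_two' (by rw [Nat.card_eq_fintype_card]; exact hF) (by rw [Fintype.card_fin]; exact hn) g v hv hI).2

end Cfsg.Agent.H127.Gs
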