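import Cfsg.Agent.H127.Gs.Emb
import Cfsg.Agent.S0801

/-!
# S4327: transvections in `SL_n(F)`, `n ≥ 3`, `q` odd or `q = 2`

* `sl2_two` : `SL_2(F)` is generated by two transvections (`q` odd or `q = 2`);
* `conj_transvection` : all transvections are conjugate (`n ≥ 3`);
* `reach_transvection` : `|I|` conjugates of a transvection generate a group containing `NatG F I`.
-/

set_option autoImplicit false

namespace Cfsg.Agent.H127.Gs

open Matrix Cfsg.Agent.H915.Gs

variable {F : Type*} [Field F]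

/-- a generator of the field -/
theorem exists_gen_field [Finite F] (h2 : (2 : F) ≠ 0) :
    ∃ l : F, l ≠ 0 ∧ Subfield.closure ({l} : Set F) = ⊤ ∧ ¬ (Nat.card F = 9 ∧ l ^ 2 = -1) := by
  obtain ⟨u, hu⟩ := IsCyclic.exists_generator (α := Fˣ)
  have h1 : Subfield.closure ({(u : F)} : Set F) = ⊤ := by
    rw [eq_top_iff]
    intro x _
    by_cases hx : x = 0
    · rw [hx]; exact zero_mem _
    · obtain ⟨k, hk⟩ := hu (Units.mk0 x hx)
      have h3 : x = (u : F) ^ k := by
        have := congrArg (fun z : Fˣ => (z : F)) hk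
        rw [Units.val_mk0] at this
        rw [← this]
        push_cast
        rfl
      rw [h3]
      exact zpow_mem (Subfield.subset_closure (Set.mem_singleton _)) k
  by_cases h9 : Nat.card F = 9 ∧ (u : F) ^ 2 = -1
  · obtain ⟨h9, hu2⟩ := h9
    have h3 : (3 : F) = 0 := by
      have : Fintype F := Fintype.ofFinite F
      have h4 : ((Fintype.card F : ℕ) : F) = 0 := FiniteField.cast_card_eq_zero F
      rw [← Nat.card_eq_fintype_card, h9] at h4
      have h5 : (3 : F) * 3 = 0 := by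
        have : ((9 : ℕ) : F) = 3 * 3 := by norm_num
        rw [← this]; exact h4
      exact mul_self_eq_zero.1 h5
    refine ⟨u + 1, ?_, ?_, ?_⟩
    · intro h
      have h4 : (u : F) = -1 := eq_neg_of_add_eq_zero_left h
      rw [h4] at hu2
      apply h2
      linear_combination hu2
    · rw [eq_top_iff, ← h1, Subfield.closure_le, Set.singleton_subset_iff]
      have h4 : (u : F) + 1 ∈ Subfield.closure ({(u : F) + 1} : Set F) := Subfield.subset_closure (Set.mem_singleton _)
      have h5 := sub_mem h4 (one_mem (Subfield.closure ({(u : F) + 1} : Set F)))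
      rwa [add_sub_cancel_right] at h5
    · rintro ⟨-, h4⟩
      have h5 : (u : F) * 2 = -1 := by linear_combination h4 - hu2
      have h6 : (u : F) = 1 := by linear_combination h3 * (u : F) - h5
      rw [h6] at hu2
      apply h2
      linear_combination hu2
  · exact ⟨u, u.ne_zero, h1, h9⟩

/-- `SL_2(F)` is generated by two transvections, `q = 2` or odd -/
theorem sl2_two [Finite F] (hq : (2 : F) ≠ 0 ∨ Nat.card F = 2) :
    ∃ l : F, l ≠ 0 ∧ Subgroup.closure {tv (Pi.single 1 1) (Pi.single 0 1),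
      tv (Pi.single 0 l) (Pi.single (1 : Fin 2) (1 : F))} = ⊤ := by
  have e1 : ((tv (Pi.single 1 1) (Pi.single 0 1) : Matrix.SpecialLinearGroup (Fin 2) F) : Matrix (Fin 2) (Fin 2) F) =
      !![1, 0; 1, 1] := by
    rw [coe_tv (by simp)]
    ext a b
    fin_cases a <;> fin_cases b <;> simp [vecMulVec_apply]
  have e2 : ∀ l : F, ((tv (Pi.single 0 l) (Pi.single 1 1) : Matrix.SpecialLinearGroup (Fin 2) F) :
      Matrix (Fin 2) (Fin 2) F) = !![1, l; 0, 1] := by
    intro l
    rw [coe_tv (by simp)]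
    ext a b
    fin_cases a <;> fin_cases b <;> simp [vecMulVec_apply]
  rcases hq with h2 | hq
  · obtain ⟨l, hl, hl1, hl2⟩ := exists_gen_field h2
    refine ⟨l, hl, ?_⟩
    have : Fintype F := Fintype.ofFinite F
    have h3 := Cfsg.Agent.S0801.result h2 l hl hl1
    have h4 : {g : Matrix.SpecialLinearGroup (Fin 2) F | (g : Matrix (Fin 2) (Fin 2) F) = !![1, 0; 1, 1] ∨
        (g : Matrix (Fin 2) (Fin 2) F) = !![1, l; 0, 1]} =
        {tv (Pi.single 1 1) (Pi.single 0 1), tv (Pi.single 0 l) (Pi.single (1 : Fin 2) (1 : F))} := by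
      ext g
      constructor
      · rintro (h | h)
        · left; exact sl_ext (by rw [h, e1])
        · right; exact sl_ext (by rw [h, e2])
      · rintro (h | h)
        · left; rw [h, e1]
        · right
          rw [Set.mem_singleton_iff] at h
          rw [h, e2]
    rw [h4] at h3
    rcases h3 with h3 | h3
    · exact h3.1
    · exact absurd ⟨by rw [Nat.card_eq_fintype_card]; exact h3.1, h3.2.1⟩ hl2
  · refine ⟨1, one_ne_zero, ?_⟩
    rw [eq_top_iff, ← Cfsg.Agent.LieClassical.SLGen.closure_transvections, Subgroup.closure_le]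
    rintro _ ⟨i, j, h, c, rfl⟩
    rw [SetLike.mem_coe, transvection_eq_tv h c]
    have hc : c = 0 ∨ c = 1 := by
      classical
      by_contra hcon
      rw [not_or] at hcon
      have h3 : ({0, 1, c} : Finset F).card = 3 := by
        rw [Finset.card_eq_three]
        exact ⟨0, 1, c, zero_ne_one, Ne.symm hcon.1, Ne.symm hcon.2, rfl⟩
      have : Fintype F := Fintype.ofFinite F
      have h4 := Finset.card_le_univ ({0, 1, c} : Finset F)
      rw [h3, ← Nat.card_eq_fintype_card, hq] at h4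
      omega
    rcases hc with rfl | rfl
    · rw [Pi.single_zero, tv_zero_left]; exact one_mem _
    · fin_cases i <;> fin_cases j
      · exact absurd rfl h
      · exact Subgroup.subset_closure (Or.inr rfl)
      · exact Subgroup.subset_closure (Or.inl rfl)
      · exact absurd rfl h

variable {ι : Type*} [Fintype ι] [DecidableEq ι]

theorem exists_dual {v : ι → F} (hv : v ≠ 0) : ∃ f : ι → F, f ⬝ᵥ v = 1 := by
  obtain ⟨i, hi⟩ : ∃ i, v i ≠ 0 := by
    by_contra h
    push Not at h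
    exact hv (funext h)
  exact ⟨Pi.single i (v i)⁻¹, by rw [single_dotProduct, inv_mul_cancel₀ hi]⟩

/-- an opposite transvection -/
theorem exists_opp {v f : ι → F} (hv : v ≠ 0) (hf : f ≠ 0) (h : f ⬝ᵥ v = 0) :
    ∃ v' f' : ι → F, f' ⬝ᵥ v' = 0 ∧ f ⬝ᵥ v' = 1 ∧ f' ⬝ᵥ v = 1 := by
  obtain ⟨v', hv'⟩ := exists_dual hf
  rw [dotProduct_comm] at hv'
  obtain ⟨f', -, h1, h2⟩ := sep_aux (F := F) (Finset.univ : Finset ι) (v := v) (fun i hi => absurd (Finset.mem_univ i) hi)
    hv (w := v') (fun i hi => absurd (Finset.mem_univ i) hi) (by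
      intro c hc
      rw [hc, dotProduct_smul, h, smul_zero] at hv'
      exact zero_ne_one hv') 1 0
  exact ⟨v', f', h2, hv', h1⟩

/-- all transvections are conjugate, `n ≥ 3` -/
theorem conj_transvection (h3 : 3 ≤ Fintype.card ι) {v f w p : ι → F} (hv : v ≠ 0) (hf : f ≠ 0) (h : f ⬝ᵥ v = 0)
    (hw : w ≠ 0) (hp : p ≠ 0) (h' : p ⬝ᵥ w = 0) :
    ∃ g : Matrix.SpecialLinearGroup ι F, g * tv v f * g⁻¹ = tv w p := by
  obtain ⟨v', f', a1, a2, a3⟩ := exists_opp hv hf h
  obtain ⟨w', p', b1, b2, b3⟩ := exists_opp hw hp h'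
  obtain ⟨g, g1, -, g3, -⟩ := exists_trans h3 h a1 (by rw [a2]; exact one_ne_zero) (by rw [a3]; exact one_ne_zero)
    h' b1 (by rw [a2, b2]) (by rw [a3, b3])
  exact ⟨g, by rw [conj_tv g h, g1, g3]⟩

theorem opp_conj_tv {v f : ι → F} (hv : v ≠ 0) (hf : f ≠ 0) (h : f ⬝ᵥ v = 0) : Opp (MulAut.conj (tv v f)) := by
  obtain ⟨w, p, h1, h2, h3⟩ := exists_opp hv hf h
  refine ⟨w, p, w + (f ⬝ᵥ w) • v, p - (p ⬝ᵥ v) • f, h1, ?_, ?_, ?_, conj_tv_tv h h1⟩
  · rw [h2, h3, one_smul, one_smul, sub_dotProduct, dotProduct_add, dotProduct_add, h1, h2, h3, h]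
    ring
  · rw [h2, one_smul, dotProduct_add, h1, h3, zero_add]
    exact one_ne_zero
  · rw [h3, one_smul, sub_dotProduct, h1, h2, zero_sub]
    exact neg_ne_zero.2 one_ne_zero

/-- two conjugates of a transvection reach the group generated by any two transvections -/
theorem reach_pair (h3 : 3 ≤ Fintype.card ι) {v f : ι → F} (hv : v ≠ 0) (hf : f ≠ 0) (h : f ⬝ᵥ v = 0)
    {w p w' p' : ι → F} (hw : w ≠ 0) (hp : p ≠ 0) (h1 : p ⬝ᵥ w = 0) (hw' : w' ≠ 0) (hp' : p' ≠ 0)
    (h2 : p' ⬝ᵥ w' = 0) : Reach (MulAut.conj (tv v f)) 2 (Subgroup.closure {tv w p, tv w' p'}) := by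
  obtain ⟨g, hg⟩ := conj_transvection h3 hv hf h hw hp h1
  obtain ⟨g', hg'⟩ := conj_transvection h3 hv hf h hw' hp' h2
  refine ⟨![g, g'], ?_⟩
  rw [MonoidHom.map_closure, Subgroup.closure_le]
  rintro _ ⟨x, hx, rfl⟩
  rcases hx with rfl | hx
  · have e : (MulAut.conj (tv w p) : MulAut (Matrix.SpecialLinearGroup ι F)) =
        MulAut.conj g * MulAut.conj (tv v f) * (MulAut.conj g)⁻¹ := by
      rw [← map_inv, ← map_mul, ← map_mul, hg]
    change MulAut.conj (tv w p) ∈ _
    rw [e]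
    exact mem_Gn _ (![g, g'] : Fin 2 → _) 0
  · rw [Set.mem_singleton_iff] at hx
    subst hx
    have e : (MulAut.conj (tv w' p') : MulAut (Matrix.SpecialLinearGroup ι F)) =
        MulAut.conj g' * MulAut.conj (tv v f) * (MulAut.conj g')⁻¹ := by
      rw [← map_inv, ← map_mul, ← map_mul, hg']
    change MulAut.conj (tv w' p') ∈ _
    rw [e]
    exact mem_Gn _ (![g, g'] : Fin 2 → _) 1

/-- the natural `SL_2` is generated by two transvections, `q = 2` or odd -/
theorem nat_two [Finite F] (hq : (2 : F) ≠ 0 ∨ Nat.card F = 2) {I : Finset ι} (hI : I.card = 2) :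
    ∃ (i j : ι) (l : F), i ∈ I ∧ j ∈ I ∧ i ≠ j ∧ l ≠ 0 ∧
      NatG F I = Subgroup.closure {tv (Pi.single j 1) (Pi.single i 1), tv (Pi.single i l) (Pi.single j 1)} := by
  obtain ⟨e, he⟩ := exists_emb I hI
  obtain ⟨l, hl, hcl⟩ := sl2_two hq
  have hEm : ∀ (a : Fin 2) (c : F), Em F e *ᵥ (Pi.single a c) = Pi.single (e a) c := by
    intro a c
    rw [Em_mulVec, Finset.sum_eq_single a]
    · rw [Pi.single_eq_same]
    · intro b _ hb
      rw [Pi.single_eq_of_ne hb, Pi.single_zero]
    · intro h; exact absurd (Finset.mem_univ a) h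
  refine ⟨e 0, e 1, l, ?_, ?_, ?_, hl, ?_⟩
  · rw [← he]; exact Finset.mem_map_of_mem e (Finset.mem_univ _)
  · rw [← he]; exact Finset.mem_map_of_mem e (Finset.mem_univ _)
  · exact e.injective.ne (by decide)
  · conv_lhs => rw [← he]
    rw [← range_emb, MonoidHom.range_eq_map, ← hcl, MonoidHom.map_closure, Set.image_pair, emb_tv e (by simp),
      emb_tv e (by simp)]
    simp only [hEm]

theorem start_transvection [Finite F] (hq : (2 : F) ≠ 0 ∨ Nat.card F = 2) (h3 : 3 ≤ Fintype.card ι)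
    {v f : ι → F} (hv : v ≠ 0) (hf : f ≠ 0) (h : f ⬝ᵥ v = 0) {I : Finset ι} (hI : I.card = 2) :
    Reach (MulAut.conj (tv v f)) 2 (NatG F I) := by
  obtain ⟨i, j, l, -, -, hij, hl, hN⟩ := nat_two hq hI
  rw [hN]
  have hs : ∀ (k : ι) (c : F), c ≠ 0 → (Pi.single k c : ι → F) ≠ 0 := by
    intro k c hc h0
    have := congrFun h0 k
    rw [Pi.single_eq_same] at this
    exact hc this
  exact reach_pair h3 hv hf h (hs _ _ one_ne_zero) (hs _ _ one_ne_zero) (by simp [hij]) (hs _ _ hl)
    (hs _ _ one_ne_zero) (by simp [hij.symm])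

/-- **transvections**, `q` odd or `q = 2` -/
theorem reach_transvection [Finite F] (hq : (2 : F) ≠ 0 ∨ Nat.card F = 2) (h3 : 3 ≤ Fintype.card ι)
    {v f : ι → F} (hv : v ≠ 0) (hf : f ≠ 0) (h : f ⬝ᵥ v = 0) {I : Finset ι} (hI : 2 ≤ I.card) :
    Reach (MulAut.conj (tv v f)) I.card (NatG F I) := by
  obtain ⟨I₀, hI₀, hc⟩ := Finset.exists_subset_card_eq hI
  have h1 := reach_of_subset h3 (opp_conj_tv hv hf h) hc.ge (start_transvection hq h3 hv hf h hc) hI₀
  rw [hc] at h1
  have e : 2 + (I.card - 2) = I.card := by omega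
  rwa [e] at h1

end Cfsg.Agent.H127.Gs
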